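import Mathlib

/-!
# Geometric reducedness is tested by the Frobenius of the base field
-/

set_option autoImplicit false
set_option linter.style.haveILetI false
set_option backward.isDefEq.respectTransparency false

universe u

open TensorProduct

namespace Groth.Agent.FrobRedLib

/-- `K` as an algebra over itself through an endomorphism. -/
def Tw {k : Type u} [Field k] (_φ : k →+* k) : Type u := k

noncomputable instance {k : Type u} [Field k] (φ : k →+* k) : Field (Tw φ) := inferInstanceAs (Field k)

noncomputable instance {k : Type u} [Field k] (φ : k →+* k) : Algebra k (Tw φ) := (show k →+* Tw φ from φ).toAlgebra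

variable {k A : Type u} [Field k] [CommRing A] [Algebra k A] (p : ℕ) [Fact p.Prime] [CharP k p]

theorem pow_char_tmul {B : Type u} [CommRing B] [Algebra k B] [Nontrivial (A ⊗[k] B)] {ι : Type*} (s : Finset ι)
    (a : ι → A) (b : ι → B) (n : ℕ) :
    (∑ i ∈ s, a i ⊗ₜ[k] b i) ^ p ^ n = ∑ i ∈ s, (a i ^ p ^ n) ⊗ₜ[k] (b i ^ p ^ n) := by
  haveI : CharP (A ⊗[k] B) p := charP_of_injective_algebraMap (algebraMap k (A ⊗[k] B)).injective p
  haveI : ExpChar (A ⊗[k] B) p := ExpChar.prime Fact.out
  rw [sum_pow_char_pow]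
  simp only [Algebra.TensorProduct.tmul_pow]

theorem sum_tmul_eq_zero {B : Type u} [CommRing B] [Algebra k B] {ι : Type u} (e : ι → A)
    (he : LinearIndependent k e) (s : Finset ι) (c : ι → B) (h : ∑ i ∈ s, e i ⊗ₜ[k] c i = 0) :
    ∀ i ∈ s, c i = 0 := by
  classical
  have hs : LinearIndependent k (fun i : s => e i) := he.comp _ Subtype.coe_injective
  have h' : ∑ i : s, e i ⊗ₜ[k] c i = 0 := by
    rw [← Finset.sum_coe_sort] at h
    exact h
  have hinj : Function.Injective ((Fintype.linearCombination k fun i : s => e i).rTensor B) :=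
    Module.Flat.rTensor_preserves_injective_linearMap _ hs.fintypeLinearCombination_injective
  intro i hi
  have hx : (∑ j : s, (Pi.single j (1 : k) : s → k) ⊗ₜ[k] c j) = 0 := hinj (by
    rw [map_sum, map_zero, ← h']
    refine Finset.sum_congr rfl fun j _ => ?_
    rw [LinearMap.rTensor_tmul, Fintype.linearCombination_apply_single, one_smul])
  have := congrArg (fun z => TensorProduct.lid k B ((LinearMap.proj (⟨i, hi⟩ : s)).rTensor B z)) hx
  simpa [map_sum, Pi.single_apply] using this

/-- If `A ⊗ k^{1/p}` is reduced, `p`-th powers preserve linear independence. -/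
theorem linearIndependent_pow [IsReduced (A ⊗[k] Tw (frobenius k p))] {ι : Type u} (e : ι → A)
    (he : LinearIndependent k e) : LinearIndependent k fun i => e i ^ p := by
  rw [linearIndependent_iff']
  intro s c hc i hi
  rcases subsingleton_or_nontrivial (A ⊗[k] Tw (frobenius k p)) with hss | hnt
  · exact (sum_tmul_eq_zero e he s (fun j => (show Tw (frobenius k p) from c j)) (Subsingleton.elim _ _) i hi : _)
  let x : A ⊗[k] Tw (frobenius k p) := ∑ j ∈ s, e j ⊗ₜ[k] (show Tw (frobenius k p) from c j)
  have hx : x ^ p ^ 1 = 0 := by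
    rw [pow_char_tmul p s e _ 1]
    have : ∀ j, (e j ^ p ^ 1) ⊗ₜ[k] ((show Tw (frobenius k p) from c j) ^ p ^ 1) =
        (c j • e j ^ p) ⊗ₜ[k] (1 : Tw (frobenius k p)) := fun j => by
      rw [TensorProduct.smul_tmul, Algebra.smul_def, mul_one, pow_one]
      rfl
    simp only [this]
    rw [← TensorProduct.sum_tmul, hc, TensorProduct.zero_tmul]
  exact sum_tmul_eq_zero e he s _ (IsNilpotent.eq_zero ⟨_, hx⟩) i hi

theorem linearIndependent_pow_pow [IsReduced (A ⊗[k] Tw (frobenius k p))] {ι : Type u} (e : ι → A)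
    (he : LinearIndependent k e) : ∀ n : ℕ, LinearIndependent k fun i => e i ^ p ^ n
  | 0 => by simpa using he
  | n + 1 => by
    have := linearIndependent_pow p _ (linearIndependent_pow_pow e he n)
    simpa only [pow_succ, pow_mul] using this

/-- `A ⊗ k'` is reduced for every finite purely inseparable `k'` once `A ⊗ k^{1/p}` is. -/
theorem isReduced_tensor_of_pinsep [IsReduced (A ⊗[k] Tw (frobenius k p))] (k' : Type u) [Field k'] [Algebra k k']
    [IsPurelyInseparable k k'] : IsReduced (A ⊗[k] k') := by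
  classical
  haveI : ExpChar k p := ExpChar.prime Fact.out
  rcases subsingleton_or_nontrivial (A ⊗[k] k') with hss | hnt
  · exact ⟨fun x _ => Subsingleton.elim _ _⟩
  refine ⟨fun x ⟨m, hm⟩ => ?_⟩
  let b := Module.Basis.ofVectorSpace k A
  obtain ⟨c, rfl⟩ : ∃ c : _ →₀ k', x = c.sum fun i y => b i ⊗ₜ[k] y :=
    ⟨TensorProduct.equivFinsuppOfBasisLeft b x, by
      conv_lhs => rw [← (TensorProduct.equivFinsuppOfBasisLeft b).symm_apply_apply x]
      rw [TensorProduct.equivFinsuppOfBasisLeft_symm_apply]⟩
  choose N hN using fun i => IsPurelyInseparable.pow_mem k p (c i)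
  let M := max m (c.support.sup N)
  have hM : ∀ i ∈ c.support, ∃ γ : k, algebraMap k k' γ = c i ^ p ^ M := fun i hi => by
    obtain ⟨γ, hγ⟩ := hN i
    obtain ⟨d, hd⟩ := Nat.exists_eq_add_of_le ((Finset.le_sup (f := N) hi).trans (le_max_right m _))
    exact ⟨γ ^ p ^ d, by rw [map_pow, hγ, ← pow_mul, ← pow_add, ← hd]⟩
  choose! γ hγ using hM
  have h0 : (∑ i ∈ c.support, b i ⊗ₜ[k] c i) ^ p ^ M = 0 :=
    pow_eq_zero_of_le (((Nat.lt_pow_self (Fact.out : p.Prime).one_lt).le).trans' (le_max_left m _)) hm
  rw [pow_char_tmul p c.support _ _ M] at h0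
  have h1 : ∑ i ∈ c.support, (γ i • b i ^ p ^ M) ⊗ₜ[k] (1 : k') = 0 := by
    rw [← h0]
    refine Finset.sum_congr rfl fun i hi => ?_
    rw [TensorProduct.smul_tmul, Algebra.smul_def, mul_one, hγ i hi]
  rw [← TensorProduct.sum_tmul] at h1
  have h2 : ∑ i ∈ c.support, γ i • b i ^ p ^ M = 0 :=
    Algebra.TensorProduct.includeLeft_injective (S := k) (algebraMap k k').injective
      (h1.trans (map_zero _).symm)
  have hli := linearIndependent_iff'.1 (linearIndependent_pow_pow p b b.linearIndependent M) c.support γ h2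
  refine Finset.sum_eq_zero fun i hi => ?_
  have : c i ^ p ^ M = 0 := by rw [← hγ i hi, hli i hi, map_zero]
  rw [pow_eq_zero_iff (pow_ne_zero _ (Fact.out : p.Prime).ne_zero)] at this
  simp [this]

end Groth.Agent.FrobRedLib

namespace Groth.Agent.FrobRedLib

variable {k : Type u} [Field k] (p : ℕ) [Fact p.Prime] [CharP k p]

theorem isAlgebraic_tw : Algebra.IsAlgebraic k (Tw (frobenius k p)) :=
  haveI : Algebra.IsIntegral k (Tw (frobenius k p)) := ⟨fun x =>
    IsIntegral.of_pow (Fact.out : p.Prime).pos (by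
      have h : x ^ p = algebraMap k (Tw (frobenius k p)) (show k from x) := rfl
      rw [h]
      exact isIntegral_algebraMap)⟩
  inferInstance

end Groth.Agent.FrobRedLib
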